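import Groth.Agent.WEtNormalLib.Main

/-! Local weakly étale algebras over normal domains are normal domains. -/

set_option autoImplicit false
set_option linter.style.haveILetI false
set_option backward.isDefEq.respectTransparency false
universe u

open TensorProduct

namespace Groth.Agent.WEtNormalLib

theorem normalDomain_of_weaklyEtale (A B : Type u) [CommRing A] [IsDomain A] [IsIntegrallyClosed A]
    [CommRing B] [IsLocalRing B] [Algebra A B] [Algebra.WeaklyEtale A B] :
    IsDomain B ∧ IsIntegrallyClosed B := by
  let K := FractionRing A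
  let L := B ⊗[A] K
  haveI hic : IsIntegrallyClosedIn B L := integrallyClosedIn_generic A K B
  have hinj : Function.Injective (algebraMap B L) := (isIntegrallyClosedIn_iff.1 hic).1
  let e := Algebra.TensorProduct.comm A B K
  have hK : ∀ a : K, ∃ x, a = a * a * x := fun a => ⟨a⁻¹, by
    rcases eq_or_ne a 0 with h | h
    · rw [h]; simp
    · rw [mul_assoc, mul_inv_cancel₀ h, mul_one]⟩
  have hvnr : ∀ l : L, ∃ x, l = l * l * x := fun l => by
    obtain ⟨x, hx⟩ := WEtReducedLib.forall_dvd_of_weaklyEtale (A := K) (B := K ⊗[A] B) hK (e l)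
    exact ⟨e.symm x, e.injective (by simpa using hx)⟩
  have hfield : ∀ l : L, l ≠ 0 → IsUnit l := by
    intro l hl
    obtain ⟨x, hx⟩ := hvnr l
    have hidem : l * x * (l * x) = l * x := by linear_combination -x * hx
    have hint : IsIntegral B (l * x) :=
      ⟨Polynomial.X ^ 2 - Polynomial.X, Polynomial.monic_X_pow_sub (by simp), by
        rw [Polynomial.eval₂_sub, Polynomial.eval₂_pow, Polynomial.eval₂_X, pow_two, hidem, sub_self]⟩
    obtain ⟨b, hb⟩ := IsIntegrallyClosedIn.algebraMap_eq_of_integral hint
    have hb2 : b * (1 - b) = 0 := hinj (by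
      rw [map_mul, map_sub, map_one, map_zero, hb, mul_sub, mul_one, hidem, sub_self])
    rcases IsLocalRing.isUnit_or_isUnit_one_sub_self b with h | h
    · rw [h.mul_right_eq_zero] at hb2
      rw [(sub_eq_zero.1 hb2).symm, map_one] at hb
      exact IsUnit.of_mul_eq_one x hb.symm
    · rw [h.mul_left_eq_zero] at hb2
      rw [hb2, map_zero] at hb
      exact absurd (by rw [hx, mul_assoc, ← hb, mul_zero]) hl
  haveI : Nontrivial L := hinj.nontrivial
  letI : Field L := IsField.toField ⟨⟨0, 1, zero_ne_one⟩, fun a b => mul_comm a b,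
    fun {a} ha => isUnit_iff_exists_inv.1 (hfield a ha)⟩
  haveI : IsDomain B := hinj.isDomain _
  haveI : IsFractionRing B L := by
    haveI : FaithfulSMul B L := (faithfulSMul_iff_algebraMap_injective B L).2 hinj
    refine IsFractionRing.of_field B L fun z => ?_
    suffices H : ∀ z : L, ∃ b a : B, algebraMap B L a ≠ 0 ∧ z * algebraMap B L a = algebraMap B L b by
      obtain ⟨b, a, ha, h⟩ := H z
      exact ⟨b, a, ((div_eq_iff ha).2 h.symm).symm⟩
    intro z
    induction z using TensorProduct.induction_on with
    | zero => exact ⟨0, 1, by simp, by simp⟩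
    | add z z' hz hz' =>
      obtain ⟨b, a, ha, h⟩ := hz
      obtain ⟨b', a', ha', h'⟩ := hz'
      refine ⟨b * a' + b' * a, a * a', by rw [map_mul]; exact mul_ne_zero ha ha', ?_⟩
      rw [map_add, map_mul, map_mul, map_mul, ← h, ← h']
      ring
    | tmul b k =>
      obtain ⟨c, d, hd, rfl⟩ := IsFractionRing.div_surjective A k
      have hd0 : algebraMap A K d ≠ 0 := IsFractionRing.to_map_ne_zero_of_mem_nonZeroDivisors hd
      refine ⟨c • b, algebraMap A B d, ?_, ?_⟩
      · rw [← IsScalarTower.algebraMap_apply]
        intro h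
        rw [← (Algebra.TensorProduct.includeRight : K →ₐ[A] L).commutes d] at h
        exact hd0 ((injective_iff_map_eq_zero (Algebra.TensorProduct.includeRight : K →ₐ[A] L).toRingHom).1
          (RingHom.injective _) _ h)
      · show (b ⊗ₜ[A] (algebraMap A K c / algebraMap A K d)) * (algebraMap A B d ⊗ₜ 1) = (c • b) ⊗ₜ 1
        rw [Algebra.TensorProduct.tmul_mul_tmul, mul_one, mul_comm b, ← Algebra.smul_def, TensorProduct.smul_tmul,
          TensorProduct.smul_tmul, Algebra.smul_def, Algebra.smul_def, mul_one, mul_div_cancel₀ _ hd0]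
  exact ⟨inferInstance, (isIntegrallyClosed_iff L).2 fun {x} hx => IsIntegrallyClosedIn.algebraMap_eq_of_integral hx⟩

end Groth.Agent.WEtNormalLib
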