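import Mathlib

/-! Local rings of products of valuation rings. -/

set_option autoImplicit false
set_option linter.style.haveILetI false
universe u

open Polynomial

namespace Groth.Agent.WEtNormalLib

variable {ι : Type u} (V : ι → Type u) [∀ i, CommRing (V i)] [∀ i, IsDomain (V i)]
  (P : Ideal (∀ i, V i)) [P.IsPrime]

theorem idem_image (e : ∀ i, V i) (he : e * e = e) :
    algebraMap _ (Localization.AtPrime P) e = 0 ∨ algebraMap _ (Localization.AtPrime P) e = 1 := by
  have h : e * (1 - e) = 0 := by rw [mul_sub, mul_one, he, sub_self]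
  by_cases heP : e ∈ P
  · have hu : IsUnit (algebraMap _ (Localization.AtPrime P) (1 - e)) :=
      IsLocalization.map_units (Localization.AtPrime P) (⟨1 - e, fun h' => Ideal.IsPrime.ne_top inferInstance
        ((Ideal.eq_top_iff_one P).2 (by simpa using P.add_mem h' heP))⟩ : P.primeCompl)
    left
    refine hu.mul_left_eq_zero.1 ?_
    rw [← map_mul, h, map_zero]
  · have hu : IsUnit (algebraMap _ (Localization.AtPrime P) e) :=
      IsLocalization.map_units (Localization.AtPrime P) (⟨e, heP⟩ : P.primeCompl)
    right
    refine hu.mul_left_cancel ?_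
    rw [mul_one, ← map_mul, he]

open scoped Classical in
theorem isDomain_localization : IsDomain (Localization.AtPrime P) := by
  haveI : NoZeroDivisors (Localization.AtPrime P) := by
    refine ⟨fun {x y} hxy => ?_⟩
    obtain ⟨x, s, rfl⟩ := IsLocalization.exists_mk'_eq P.primeCompl x
    obtain ⟨y, t, rfl⟩ := IsLocalization.exists_mk'_eq P.primeCompl y
    rw [← IsLocalization.mk'_mul, IsLocalization.mk'_eq_zero_iff] at hxy
    obtain ⟨w, hw⟩ := hxy
    let e : ∀ i, V i := fun i => if x i = 0 then 0 else 1
    have he : e * e = e := funext fun i => by simp only [Pi.mul_apply, e]; split_ifs <;> simp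
    have hex : e * x = x := funext fun i => by simp only [Pi.mul_apply, e]; split_ifs with h <;> simp [h]
    rcases idem_image V P e he with h | h
    · left
      rw [IsLocalization.mk'_eq_mul_mk'_one, ← hex, map_mul, h, zero_mul, zero_mul]
    · right
      have hy : e * ((w : ∀ i, V i) * y) = 0 := funext fun i => by
        have := congrFun hw i
        simp only [Pi.mul_apply, Pi.zero_apply, e] at this ⊢
        split_ifs with hi
        · simp
        · rw [one_mul]
          refine (mul_eq_zero.1 (show x i * ((w : ∀ i, V i) i * y i) = 0 from ?_)).resolve_left hi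
          linear_combination this
      have h2 : algebraMap _ (Localization.AtPrime P) y = 0 := by
        refine (IsLocalization.map_units (Localization.AtPrime P) w).mul_right_eq_zero.1 ?_
        rw [← map_mul, ← one_mul (algebraMap _ _ ((w : ∀ i, V i) * y)), ← h, ← map_mul, hy, map_zero]
      rw [IsLocalization.mk'_eq_mul_mk'_one, h2, zero_mul]
  exact NoZeroDivisors.to_isDomain _

open scoped Classical in
theorem valuationRing_localization [∀ i, ValuationRing (V i)] [IsDomain (Localization.AtPrime P)] :
    ValuationRing (Localization.AtPrime P) := by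
  refine ValuationRing.iff_dvd_total.2 ⟨fun x y => ?_⟩
  obtain ⟨x, s, rfl⟩ := IsLocalization.exists_mk'_eq P.primeCompl x
  obtain ⟨y, t, rfl⟩ := IsLocalization.exists_mk'_eq P.primeCompl y
  have key : ∀ (a : ∀ i, V i) (u : P.primeCompl), Associated (algebraMap _ (Localization.AtPrime P) a)
      (IsLocalization.mk' (Localization.AtPrime P) a u) := fun a u => by
    rw [← IsLocalization.mk'_spec (Localization.AtPrime P) a u]
    exact associated_mul_unit_left _ _ (IsLocalization.map_units (Localization.AtPrime P) u)
  let e : ∀ i, V i := fun i => if x i ∣ y i then 1 else 0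
  have he : e * e = e := funext fun i => by simp only [Pi.mul_apply, e]; split_ifs <;> simp
  rcases idem_image V P e he with h | h
  · right
    have hd : y ∣ (1 - e) * x := ⟨fun i => if hi : x i ∣ y i then 0 else ((ValuationRing.dvd_total (x i) (y i)).resolve_left hi).choose,
      funext fun i => by
        simp only [Pi.mul_apply, Pi.sub_apply, Pi.one_apply, e]
        split_ifs with hi
        · simp
        · rw [sub_zero, one_mul]; exact ((ValuationRing.dvd_total (x i) (y i)).resolve_left hi).choose_spec⟩
    have hd' := map_dvd (algebraMap _ (Localization.AtPrime P)) hd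
    rw [map_mul, map_sub, map_one, h, sub_zero, one_mul] at hd'
    exact ((key y t).dvd_iff_dvd_left.1 ((key x s).dvd_iff_dvd_right.1 hd'))
  · left
    have hd : x ∣ e * y := ⟨fun i => if hi : x i ∣ y i then hi.choose else 0,
      funext fun i => by
        simp only [Pi.mul_apply, e]
        split_ifs with hi
        · rw [one_mul]; exact hi.choose_spec
        · simp⟩
    have hd' := map_dvd (algebraMap _ (Localization.AtPrime P)) hd
    rw [map_mul, h, one_mul] at hd'
    exact ((key x s).dvd_iff_dvd_left.1 ((key y t).dvd_iff_dvd_right.1 hd'))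

theorem exists_root_localization
    (hroot : ∀ i, ∀ F : (V i)[X], F.Monic → F.natDegree ≠ 0 → ∃ v, F.IsRoot v)
    [IsDomain (Localization.AtPrime P)] (F : (Localization.AtPrime P)[X]) (hF : F.Monic) (hn : F.natDegree ≠ 0) :
    ∃ v, F.IsRoot v := by
  obtain ⟨s, hs⟩ := IsLocalization.exist_integer_multiples_of_finset P.primeCompl F.coeffs
  let σ := algebraMap (∀ i, V i) (Localization.AtPrime P) (s : ∀ i, V i)
  have hlift : F.scaleRoots σ ∈ Polynomial.lifts (algebraMap (∀ i, V i) (Localization.AtPrime P)) := by
    rw [Polynomial.lifts_iff_coeff_lifts]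
    intro n
    rw [Polynomial.coeff_scaleRoots]
    rcases lt_trichotomy n F.natDegree with h | h | h
    · by_cases h0 : F.coeff n = 0
      · exact ⟨0, by rw [h0, zero_mul, map_zero]⟩
      obtain ⟨c, hc⟩ := hs _ (Polynomial.coeff_mem_coeffs h0)
      refine ⟨c * (s : ∀ i, V i) ^ (F.natDegree - n - 1), ?_⟩
      rw [map_mul, map_pow, hc, Algebra.smul_def, show F.natDegree - n = (F.natDegree - n - 1) + 1 by omega, pow_succ]
      simp only [σ, Nat.add_sub_cancel]
      ring
    · exact ⟨1, by rw [h, hF.coeff_natDegree, Nat.sub_self, pow_zero, mul_one, map_one]⟩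
    · exact ⟨0, by rw [Polynomial.coeff_eq_zero_of_natDegree_lt h, zero_mul, map_zero]⟩
  obtain ⟨G, hG, hGd, hGm⟩ := Polynomial.lifts_and_natDegree_eq_and_monic hlift
    ((Polynomial.monic_scaleRoots_iff σ).2 hF)
  haveI : Nontrivial (∀ i, V i) := (algebraMap (∀ i, V i) (Localization.AtPrime P)).domain_nontrivial
  have : ∀ i, ∃ v, (G.map (Pi.evalRingHom V i)).IsRoot v := fun i => hroot i _ (hGm.map _) (by
    rw [hGm.natDegree_map, hGd, Polynomial.natDegree_scaleRoots]; exact hn)
  choose v hv using this
  have hroot' : G.eval v = 0 := funext fun i => by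
    have h1 := hv i
    rw [Polynomial.IsRoot, Polynomial.eval_map, show v i = Pi.evalRingHom V i v from rfl,
      Polynomial.eval₂_at_apply] at h1
    exact h1
  have h2 : (F.scaleRoots σ).eval (algebraMap _ (Localization.AtPrime P) v) = 0 := by
    rw [← hG, Polynomial.eval_map, Polynomial.eval₂_at_apply, hroot', map_zero]
  obtain ⟨u, hu⟩ := IsLocalization.map_units (Localization.AtPrime P) s
  refine ⟨↑u⁻¹ * algebraMap _ (Localization.AtPrime P) v, ?_⟩
  rw [show algebraMap _ (Localization.AtPrime P) v = σ * (↑u⁻¹ * algebraMap _ (Localization.AtPrime P) v) by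
    rw [← mul_assoc, show σ = (u : Localization.AtPrime P) from hu.symm, Units.mul_inv, one_mul],
    Polynomial.scaleRoots_eval_mul] at h2
  exact (mul_eq_zero.1 h2).resolve_left (pow_ne_zero _ (show σ ≠ 0 by rw [show σ = (u : Localization.AtPrime P) from hu.symm]; exact u.ne_zero))

end Groth.Agent.WEtNormalLib
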