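import Groth.Agent.WEtNormalLib.Valuation
import Groth.Agent.WEtNormalLib.ProdVal
import Groth.Agent.WEtReducedLib.Basic
import Groth.Agent.S7127

/-! Weakly étale algebras over normal domains are integrally closed in their generic fibre. -/

set_option autoImplicit false
set_option linter.style.haveILetI false
set_option backward.isDefEq.respectTransparency false
universe u

open TensorProduct Polynomial

namespace Groth.Agent.WEtNormalLib

theorem weaklyEtale_localization (R S : Type u) [CommRing R] [CommRing S] [Algebra R S] (M : Submonoid R)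
    [IsLocalization M S] : Algebra.WeaklyEtale R S := by
  haveI : Module.Flat R S := IsLocalization.flat S M
  refine ⟨inferInstance, RingHom.Flat.of_bijective ⟨?_, fun c => ⟨c ⊗ₜ 1, by simp⟩⟩⟩
  have he : ∀ z : S ⊗[R] S, ∃ c : S, z = c ⊗ₜ[R] (1 : S) := by
    intro z
    induction z with
    | zero => exact ⟨0, (TensorProduct.zero_tmul _ _).symm⟩
    | add a b ha hb =>
      obtain ⟨c, rfl⟩ := ha
      obtain ⟨d, rfl⟩ := hb
      exact ⟨c + d, (TensorProduct.add_tmul _ _ _).symm⟩
    | tmul a b =>
      refine ⟨a * b, ?_⟩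
      obtain ⟨x, m, rfl⟩ := IsLocalization.exists_mk'_eq M b
      obtain ⟨w, hw⟩ := IsLocalization.map_units S m
      calc a ⊗ₜ[R] IsLocalization.mk' S x m
          = ((m : R) • (a * ↑w⁻¹)) ⊗ₜ[R] IsLocalization.mk' S x m := by
            rw [Algebra.smul_def, ← hw, mul_left_comm, Units.mul_inv, mul_one]
        _ = (a * ↑w⁻¹) ⊗ₜ[R] (x • (1 : S)) := by
            rw [TensorProduct.smul_tmul, Algebra.smul_def, IsLocalization.mk'_spec', Algebra.smul_def, mul_one]
        _ = (a * IsLocalization.mk' S x m) ⊗ₜ[R] (1 : S) := by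
            rw [← TensorProduct.smul_tmul, Algebra.smul_def, ← IsLocalization.mk'_spec S x m, ← hw]
            congr 1
            calc IsLocalization.mk' S x m * ↑w * (a * ↑w⁻¹)
                = a * IsLocalization.mk' S x m * (↑w * ↑w⁻¹) := by ring
              _ = _ := by rw [Units.mul_inv, mul_one]
  intro x y hxy
  obtain ⟨c, rfl⟩ := he x
  obtain ⟨d, rfl⟩ := he y
  simp only [AlgHom.toRingHom_eq_coe, RingHom.coe_coe, Algebra.TensorProduct.lmul'_apply_tmul, mul_one] at hxy
  rw [hxy]

theorem dvd_of_scaleRoots {V R : Type u} [CommRing V] [IsDomain V] [ValuationRing V] [CommRing R]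
    (φ : R →+* V) (α b : R) (F : R[X]) (hF : F.Monic) (hα0 : φ α ≠ 0) (h : (F.scaleRoots α).eval b = 0) :
    φ α ∣ φ b := by
  let K := FractionRing V
  let ψ : R →+* K := (algebraMap V K).comp φ
  have hα : ψ α ≠ 0 := fun h0 => hα0 (IsFractionRing.injective V K (h0.trans (map_zero _).symm))
  have hint : IsIntegral V (ψ b / ψ α) := by
    refine ⟨F.map φ, hF.map _, ?_⟩
    rw [Polynomial.eval₂_map, show (algebraMap V K).comp φ = ψ from rfl]
    have h1 : ((F.scaleRoots α).map ψ).eval (ψ b) = 0 := by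
      rw [Polynomial.eval_map, Polynomial.eval₂_at_apply, h, map_zero]
    rw [Polynomial.map_scaleRoots _ _ _ (by rw [hF.leadingCoeff, map_one]; exact one_ne_zero),
      show ψ b = ψ α * (ψ b / ψ α) from (mul_div_cancel₀ _ hα).symm,
      Polynomial.scaleRoots_eval_mul, Polynomial.eval_map] at h1
    exact (mul_eq_zero.1 h1).resolve_left (pow_ne_zero _ hα)
  obtain ⟨y, hy⟩ := IsIntegrallyClosed.algebraMap_eq_of_integral hint
  exact ⟨y, IsFractionRing.injective V K (by rw [map_mul, hy]; exact (mul_div_cancel₀ _ hα).symm)⟩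

/-- In a weakly étale algebra over a product of absolutely integrally closed valuation rings, the
componentwise nonzero elements generate integrally closed principal ideals. -/
theorem mem_span_of_scaleRoots {ι : Type u} (V : ι → Type u) [∀ i, CommRing (V i)] [∀ i, IsDomain (V i)]
    [∀ i, ValuationRing (V i)] (hroot : ∀ i, ∀ F : (V i)[X], F.Monic → F.natDegree ≠ 0 → ∃ v, F.IsRoot v)
    (R : Type u) [CommRing R] [Algebra (∀ i, V i) R] [Algebra.WeaklyEtale (∀ i, V i) R]
    (a : ∀ i, V i) (ha : ∀ i, a i ≠ 0) (b : R) (F : R[X]) (hF : F.Monic)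
    (h : (F.scaleRoots (algebraMap _ R a)).eval b = 0) :
    b ∈ Ideal.span {algebraMap _ R a} := by
  refine Ideal.mem_of_localization_maximal fun 𝔔 _ => ?_
  haveI : 𝔔.IsPrime := Ideal.IsMaximal.isPrime inferInstance
  let P := 𝔔.comap (algebraMap (∀ i, V i) R)
  haveI := isDomain_localization V P
  haveI := valuationRing_localization V P
  let Vp := Localization.AtPrime P
  let Rq := Localization.AtPrime 𝔔
  letI : Algebra Vp Rq := (Localization.localRingHom P 𝔔 (algebraMap _ R) rfl).toAlgebra
  haveI : IsScalarTower (∀ i, V i) Vp Rq := IsScalarTower.of_algebraMap_eq fun x => by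
    rw [RingHom.algebraMap_toAlgebra, Localization.localRingHom_to_map]
    exact IsScalarTower.algebraMap_apply (∀ i, V i) R Rq x
  haveI : IsLocalHom (algebraMap Vp Rq) := by
    rw [RingHom.algebraMap_toAlgebra]; infer_instance
  haveI : Algebra.WeaklyEtale R Rq := weaklyEtale_localization R Rq 𝔔.primeCompl
  haveI : Algebra.WeaklyEtale (∀ i, V i) Vp := weaklyEtale_localization _ Vp P.primeCompl
  haveI : Algebra.WeaklyEtale (∀ i, V i) Rq := Algebra.WeaklyEtale.trans _ R Rq
  haveI : Algebra.WeaklyEtale Vp Rq := Groth.Agent.S7127.result (∀ i, V i) Vp Rq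
  have hbij := bijective_algebraMap Vp Rq (fun G hG hn => exists_root_localization V P hroot G hG hn)
  let e : Vp ≃+* Rq := RingEquiv.ofBijective _ hbij
  let φ : R →+* Vp := e.symm.toRingHom.comp (algebraMap R Rq)
  have hφa : φ (algebraMap _ R a) = algebraMap _ Vp a := e.injective (by
    show e (e.symm _) = algebraMap Vp Rq _
    rw [e.apply_symm_apply, ← IsScalarTower.algebraMap_apply, ← IsScalarTower.algebraMap_apply])
  have ha0 : algebraMap _ Vp a ≠ 0 := by
    intro h0
    obtain ⟨w, hw⟩ := (IsLocalization.map_eq_zero_iff P.primeCompl Vp a).1 h0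
    have : (w : ∀ i, V i) = 0 := funext fun i => (mul_eq_zero.1 (congrFun hw i)).resolve_right (ha i)
    exact w.2 (this ▸ P.zero_mem)
  obtain ⟨y, hb⟩ := dvd_of_scaleRoots φ _ b F hF (fun h0 => ha0 (hφa.symm.trans h0)) h
  rw [Ideal.map_span, Set.image_singleton, Ideal.mem_span_singleton]
  refine ⟨e y, ?_⟩
  have h3 := congrArg e hb
  rw [map_mul] at h3
  simpa [φ] using h3

theorem dvd_of_forall_valuationSubring {A K : Type u} [CommRing A] [IsDomain A] [IsIntegrallyClosed A] [Field K]
    [Algebra A K] [IsFractionRing A K] (L : Type u) [Field L] [Algebra A L] [Algebra K L] [IsScalarTower A K L]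
    (a c : A) (ha : a ≠ 0)
    (h : ∀ V : ValuationSubring L, (algebraMap A L).range ≤ V.toSubring → algebraMap A L c / algebraMap A L a ∈ V) :
    a ∣ c := by
  have ha' : algebraMap A K a ≠ 0 := fun e => ha (IsFractionRing.injective A K (e.trans (map_zero _).symm))
  have hint0 : algebraMap A L c / algebraMap A L a ∈
      (integralClosure (Subring.closure ((algebraMap A L).range : Set L)) L).toSubring := by
    rw [← iInf_valuationSubring_superset, Subring.mem_iInf]
    exact fun V => h V.1 V.2
  obtain ⟨G, hG, hG0⟩ : IsIntegral (Subring.closure ((algebraMap A L).range : Set L))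
    (algebraMap A L c / algebraMap A L a) := hint0
  let f : A →+* Subring.closure ((algebraMap A L).range : Set L) :=
    (algebraMap A L).codRestrict _ fun x => Subring.subset_closure ⟨x, rfl⟩
  have hl : G ∈ Polynomial.lifts f := by
    rw [Polynomial.lifts_iff_coeff_lifts]
    intro n
    obtain ⟨x, hx⟩ := (Subring.closure_eq (algebraMap A L).range).le (G.coeff n).2
    exact ⟨x, Subtype.ext hx⟩
  obtain ⟨G', hG', -, hGm⟩ := Polynomial.lifts_and_natDegree_eq_and_monic hl hG
  have hintA : IsIntegral A (algebraMap K L (algebraMap A K c / algebraMap A K a)) := by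
    rw [map_div₀, ← IsScalarTower.algebraMap_apply, ← IsScalarTower.algebraMap_apply]
    refine ⟨G', hGm, ?_⟩
    rw [← hG', Polynomial.eval₂_map] at hG0
    exact hG0
  obtain ⟨z, hz⟩ := IsIntegrallyClosed.algebraMap_eq_of_integral (R := A) (K := K)
    ((isIntegral_algebraMap_iff (algebraMap K L).injective).1 hintA)
  exact ⟨z, IsFractionRing.injective A K (by rw [map_mul, hz, mul_div_cancel₀ _ ha'])⟩

set_option maxHeartbeats 800000 in
theorem integrallyClosedIn_generic (A : Type u) [CommRing A] [IsDomain A] [IsIntegrallyClosed A] (K : Type u) [Field K]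
    [Algebra A K] [IsFractionRing A K] (B : Type u) [CommRing B] [Algebra A B] [Algebra.WeaklyEtale A B] :
    IsIntegrallyClosedIn B (B ⊗[A] K) := by
  classical
  let L := AlgebraicClosure K
  let ι := {V : ValuationSubring L // (algebraMap A L).range ≤ V.toSubring}
  let W := (i : ι) → i.1
  letI : ∀ i : ι, Algebra A i.1 := fun i =>
    ((algebraMap A L).codRestrict i.1.toSubring fun x => i.2 ⟨x, rfl⟩).toAlgebra
  have hinjAK : Function.Injective (algebraMap A K) := IsFractionRing.injective A K
  have hinj : Function.Injective (Algebra.TensorProduct.includeLeft : B →ₐ[A] B ⊗[A] K) :=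
    Algebra.TensorProduct.includeLeft_injective (S := A) hinjAK
  have hinjAL : Function.Injective (algebraMap A L) := by
    rw [IsScalarTower.algebraMap_eq A K L]
    exact (algebraMap K L).injective.comp hinjAK
  have hroot : ∀ i : ι, ∀ F : (i.1)[X], F.Monic → F.natDegree ≠ 0 → ∃ v, F.IsRoot v := by
    intro i F hF hn
    obtain ⟨x, hx⟩ := IsAlgClosed.exists_root (F.map (algebraMap i.1 L))
      (fun h => hn (by rw [← hF.natDegree_map (algebraMap i.1 L)]; exact natDegree_eq_of_degree_eq_some h))
    obtain ⟨y, rfl⟩ := IsIntegrallyClosed.algebraMap_eq_of_integral (R := i.1) (K := L)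
      (⟨F, hF, by rwa [← Polynomial.eval_map]⟩ : IsIntegral i.1 x)
    refine ⟨y, IsFractionRing.injective i.1 L ?_⟩
    rw [map_zero, ← hx, Polynomial.eval_map, Polynomial.eval₂_at_apply]
  rw [isIntegrallyClosedIn_iff]
  refine ⟨hinj, fun {x} hx => ?_⟩
  have hden : ∀ z : B ⊗[A] K, ∃ a : A, a ≠ 0 ∧ ∃ b : B, z * (algebraMap A B a ⊗ₜ 1) = b ⊗ₜ 1 := by
    intro z
    induction z with
    | zero => exact ⟨1, one_ne_zero, 0, by simp⟩
    | add z z' hz hz' =>
      obtain ⟨a, ha, b, hb⟩ := hz
      obtain ⟨a', ha', b', hb'⟩ := hz'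
      refine ⟨a * a', mul_ne_zero ha ha', b * algebraMap A B a' + b' * algebraMap A B a, ?_⟩
      have e : (algebraMap A B (a * a') ⊗ₜ[A] (1 : K)) = (algebraMap A B a ⊗ₜ 1) * (algebraMap A B a' ⊗ₜ 1) := by
        simp [map_mul]
      rw [e, TensorProduct.add_tmul, show (b * algebraMap A B a') ⊗ₜ[A] (1 : K) = (b ⊗ₜ 1) * (algebraMap A B a' ⊗ₜ 1) by simp,
        show (b' * algebraMap A B a) ⊗ₜ[A] (1 : K) = (b' ⊗ₜ 1) * (algebraMap A B a ⊗ₜ 1) by simp, ← hb, ← hb']
      ring
    | tmul b k =>
      obtain ⟨c, d, hd, rfl⟩ := IsFractionRing.div_surjective A k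
      refine ⟨d, nonZeroDivisors.ne_zero hd, c • b, ?_⟩
      rw [Algebra.TensorProduct.tmul_mul_tmul, mul_one, mul_comm b, ← Algebra.smul_def, TensorProduct.smul_tmul,
        TensorProduct.smul_tmul, Algebra.smul_def, Algebra.smul_def, mul_one, mul_div_cancel₀]
      exact fun h => nonZeroDivisors.ne_zero hd (hinjAK (h.trans (map_zero _).symm))
  obtain ⟨a, ha, b, hb⟩ := hden x
  obtain ⟨F, hF, hF0⟩ := hx
  have hscale : (F.scaleRoots (algebraMap A B a)).eval b = 0 := by
    refine hinj ?_
    have := Polynomial.scaleRoots_eval₂_eq_zero (algebraMap B (B ⊗[A] K)) (s := algebraMap A B a) hF0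
    rw [mul_comm] at this
    rw [map_zero]
    have hb' : x * algebraMap B (B ⊗[A] K) (algebraMap A B a) = algebraMap B (B ⊗[A] K) b := hb
    rw [hb', Polynomial.eval₂_at_apply] at this
    exact this
  have hspan : (1 : W) ⊗ₜ[A] b ∈ Ideal.span {algebraMap W (W ⊗[A] B) (algebraMap A W a)} := by
    refine mem_span_of_scaleRoots (fun i : ι => i.1) hroot (W ⊗[A] B) (algebraMap A W a)
      (fun i h => ha (hinjAL (by rw [map_zero]; exact congrArg Subtype.val h))) _
      (F.map (Algebra.TensorProduct.includeRight : B →ₐ[A] W ⊗[A] B).toRingHom) (hF.map _) ?_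
    have e : algebraMap W (W ⊗[A] B) (algebraMap A W a) =
        (Algebra.TensorProduct.includeRight : B →ₐ[A] W ⊗[A] B).toRingHom (algebraMap A B a) := by
      rw [← IsScalarTower.algebraMap_apply]
      exact ((Algebra.TensorProduct.includeRight : B →ₐ[A] W ⊗[A] B).commutes a).symm
    rcases subsingleton_or_nontrivial (W ⊗[A] B) with _ | _
    · exact Subsingleton.elim _ _
    · rw [e, ← Polynomial.map_scaleRoots _ _ _ (by rw [hF.leadingCoeff, map_one]; exact one_ne_zero)]
      exact (Polynomial.eval_map _ _).trans ((Polynomial.eval₂_at_apply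
        (Algebra.TensorProduct.includeRight : B →ₐ[A] W ⊗[A] B).toRingHom b).trans (by rw [hscale, map_zero]))
  obtain ⟨r, hr⟩ := Ideal.mem_span_singleton.1 hspan
  let I : Ideal A := Ideal.span {a}
  let π : W →ₐ[A] W ⧸ Ideal.span {algebraMap A W a} := Ideal.Quotient.mkₐ A _
  let g : (A ⧸ I) →ₐ[A] W ⧸ Ideal.span {algebraMap A W a} := Ideal.Quotient.liftₐ I (Algebra.ofId A _) (fun y hy => by
    obtain ⟨c, rfl⟩ := Ideal.mem_span_singleton'.1 hy
    show π (algebraMap A W (c * a)) = 0
    exact Ideal.Quotient.eq_zero_iff_mem.2 (Ideal.mem_span_singleton'.2 ⟨algebraMap A W c, by rw [map_mul]⟩))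
  have hg : Function.Injective g := by
    rw [injective_iff_map_eq_zero]
    intro y hy
    obtain ⟨c, rfl⟩ := Ideal.Quotient.mk_surjective y
    obtain ⟨w, hw⟩ := Ideal.mem_span_singleton'.1 (Ideal.Quotient.eq_zero_iff_mem.1 (show π (algebraMap A W c) = 0 from hy))
    rw [Ideal.Quotient.eq_zero_iff_mem, Ideal.mem_span_singleton]
    refine dvd_of_forall_valuationSubring (K := K) L a c ha fun V hV => ?_
    have h1 := congrArg Subtype.val (congrFun hw ⟨V, hV⟩)
    rw [show algebraMap A L c / algebraMap A L a = (w ⟨V, hV⟩ : L) from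
      (div_eq_iff (fun h => ha (hinjAL (h.trans (map_zero _).symm)))).2 h1.symm]
    exact (w ⟨V, hV⟩).2
  have hzero : (1 : A ⧸ I) ⊗ₜ[A] b = 0 := by
    apply Module.Flat.rTensor_preserves_injective_linearMap (M := B) g.toLinearMap hg
    rw [map_zero, LinearMap.rTensor_tmul, AlgHom.toLinearMap_apply, map_one]
    have := congrArg (Algebra.TensorProduct.map π (AlgHom.id A B)) hr
    rw [Algebra.TensorProduct.map_tmul, map_one, AlgHom.id_apply, map_mul] at this
    rw [this]
    show Algebra.TensorProduct.map π (AlgHom.id A B) (algebraMap A W a ⊗ₜ[A] (1 : B)) * _ = 0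
    rw [Algebra.TensorProduct.map_tmul, show π (algebraMap A W a) = 0 from
      Ideal.Quotient.eq_zero_iff_mem.2 (Ideal.mem_span_singleton_self _), TensorProduct.zero_tmul, zero_mul]
  have := congrArg (TensorProduct.quotTensorEquivQuotSMul B I) hzero
  rw [map_zero, show (1 : A ⧸ I) = Ideal.Quotient.mk I 1 from rfl, TensorProduct.quotTensorEquivQuotSMul_mk_tmul,
    one_smul, Submodule.Quotient.mk_eq_zero, Submodule.ideal_span_singleton_smul, Submodule.mem_smul_pointwise_iff_exists] at this
  obtain ⟨b', rfl⟩ : ∃ b', b = a • b' := by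
    obtain ⟨b', -, h⟩ := this; exact ⟨b', h.symm⟩
  refine ⟨b', ?_⟩
  have hu : IsUnit (algebraMap A B a ⊗ₜ[A] (1 : K)) := by
    have e : algebraMap A B a ⊗ₜ[A] (1 : K) = (Algebra.TensorProduct.includeRight : K →ₐ[A] B ⊗[A] K) (algebraMap A K a) := by
      rw [AlgHom.commutes]; rfl
    rw [e]
    exact IsUnit.map _ (isUnit_iff_ne_zero.2 fun h => ha (hinjAK (h.trans (map_zero _).symm)))
  apply hu.mul_left_injective
  show (b' ⊗ₜ[A] (1 : K)) * _ = x * _
  rw [hb, Algebra.TensorProduct.tmul_mul_tmul, one_mul, mul_comm, ← Algebra.smul_def]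

end Groth.Agent.WEtNormalLib
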