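import Groth.Agent.WEtNormalLib.Local
import Groth.Agent.S13198
import Groth.Agent.S16174

/-! Olivier's theorem: weakly étale local algebras over strictly henselian local rings are trivial. -/

set_option autoImplicit false
set_option linter.style.haveILetI false
set_option backward.isDefEq.respectTransparency false
universe u

open TensorProduct Polynomial

namespace Groth.Agent.WEtNormalLib

theorem bijective_of_alg_closed (A B : Type u) [CommRing A] [IsDomain A] [IsLocalRing A] [IsIntegrallyClosed A]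
    [CommRing B] [IsLocalRing B] [Algebra A B] [IsLocalHom (algebraMap A B)] [Algebra.WeaklyEtale A B]
    (hroot : ∀ F : A[X], F.Monic → F.natDegree ≠ 0 → ∃ v, F.IsRoot v) :
    Function.Bijective (algebraMap A B) := by
  haveI : Module.FaithfullyFlat A B := Module.FaithfullyFlat.of_flat_of_isLocalHom
  obtain ⟨hBd, -⟩ := normalDomain_of_weaklyEtale A B
  have hinj : Function.Injective (algebraMap A B) := FaithfulSMul.algebraMap_injective A B
  refine ⟨hinj, fun x => ?_⟩
  let K := FractionRing A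
  have hK : Function.Injective (algebraMap A K) := IsFractionRing.injective A K
  haveI := WEtFieldLib.isIntegral (K := K) (B := K ⊗[A] B)
  have h1 : IsAlgebraic K ((1 : K) ⊗ₜ[A] x) := (Algebra.IsIntegral.isIntegral _).isAlgebraic
  have halg : IsAlgebraic A x := (isAlgebraic_algHom_iff (Algebra.TensorProduct.includeRight : B →ₐ[A] K ⊗[A] B)
    (Algebra.TensorProduct.includeRight_injective hK)).1 ((IsFractionRing.isAlgebraic_iff A K (K ⊗[A] B)).2 h1)
  obtain ⟨c, hc, F, hF, hF0⟩ := halg.exists_integral_multiple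
  obtain ⟨v, hv⟩ := exists_aeval_root_mem hroot F.natDegree F (c • x) hF rfl hF0
  have hmem : v ∈ ((Ideal.span {c}).map (algebraMap A B)).comap (algebraMap A B) := by
    rw [Ideal.mem_comap, ← hv, Algebra.smul_def]
    exact Ideal.mul_mem_right _ _ (Ideal.mem_map_of_mem _ (Ideal.mem_span_singleton_self c))
  rw [Ideal.comap_map_eq_self_of_faithfullyFlat, Ideal.mem_span_singleton] at hmem
  obtain ⟨w, rfl⟩ := hmem
  rw [Algebra.smul_def, map_mul] at hv
  exact ⟨w, (mul_left_cancel₀ (fun h => hc (hinj (h.trans (map_zero _).symm))) hv).symm⟩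

/-- For a weakly étale local algebra over a strictly henselian domain, `b ⊗ 1 = 1 ⊗ b`. -/
theorem one_tmul_eq_of_domain (A B : Type u) [CommRing A] [IsDomain A] [HenselianLocalRing A]
    [IsSepClosed (IsLocalRing.ResidueField A)] [CommRing B] [IsLocalRing B] [Algebra A B]
    [IsLocalHom (algebraMap A B)] [Algebra.WeaklyEtale A B] (b : B) :
    b ⊗ₜ[A] (1 : B) = (1 : B) ⊗ₜ[A] b := by
  let Ω := AlgebraicClosure (FractionRing A)
  have hAΩ : Function.Injective (algebraMap A Ω) := by
    rw [IsScalarTower.algebraMap_eq A (FractionRing A) Ω]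
    exact (algebraMap (FractionRing A) Ω).injective.comp (IsFractionRing.injective A (FractionRing A))
  let A' := integralClosure A Ω
  have hAA' : Function.Injective (algebraMap A A') := fun x y h => hAΩ (congrArg Subtype.val h)
  haveI : Algebra.IsIntegral A A' := ⟨fun x => (isIntegral_algHom_iff (Subalgebra.val A') Subtype.val_injective).1 x.2⟩
  haveI : IsLocalRing A' := HensFormalLib.isLocalRing_of_integral_domain A A'
  haveI : IsLocalHom (algebraMap A A') := by
    haveI : FaithfulSMul A A' := (faithfulSMul_iff_algebraMap_injective A A').2 hAA'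
    exact (RingHom.IsIntegral.isLocalHom (algebraMap_isIntegral_iff.2 inferInstance) hAA')
  haveI : Algebra.IsAlgebraic A Ω := (IsFractionRing.comap_isAlgebraic_iff (A := A) (K := FractionRing A) (C := Ω)).2 inferInstance
  haveI : IsFractionRing A' Ω := integralClosure.isFractionRing_of_algebraic (fun x hx => hAΩ (hx.trans (map_zero _).symm))
  haveI hA'ic : IsIntegrallyClosed A' := by
    refine (isIntegrallyClosed_iff Ω).2 fun {x} hx => ⟨⟨x, ?_⟩, rfl⟩
    haveI : Algebra.IsIntegral A A' := inferInstance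
    exact isIntegral_trans x hx
  have hroot : ∀ F : (A')[X], F.Monic → F.natDegree ≠ 0 → ∃ v, F.IsRoot v := by
    intro F hF hn
    obtain ⟨x, hx⟩ := IsAlgClosed.exists_root (F.map (algebraMap A' Ω))
      (fun h => hn (by rw [← hF.natDegree_map (algebraMap A' Ω)]; exact natDegree_eq_of_degree_eq_some h))
    obtain ⟨y, rfl⟩ := IsIntegrallyClosed.algebraMap_eq_of_integral (R := A') (K := Ω)
      (⟨F, hF, by rwa [← Polynomial.eval_map]⟩ : IsIntegral A' x)
    refine ⟨y, IsFractionRing.injective A' Ω ?_⟩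
    rw [map_zero, ← hx, Polynomial.eval_map, Polynomial.eval₂_at_apply]
  haveI : Algebra.IsIntegral (IsLocalRing.ResidueField A) (IsLocalRing.ResidueField A') := by
    refine ⟨fun y => ?_⟩
    obtain ⟨x, rfl⟩ := IsLocalRing.residue_surjective y
    obtain ⟨F, hF, hF0⟩ := Algebra.IsIntegral.isIntegral (R := A) x
    refine ⟨F.map (IsLocalRing.residue A), hF.map _, ?_⟩
    rw [Polynomial.eval₂_map]
    exact (Polynomial.hom_eval₂ F (algebraMap A A') (IsLocalRing.residue A') x).symm.trans (by rw [hF0, map_zero])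
  obtain ⟨hloc, hlocB, -⟩ := Groth.Agent.S13198.result A A' B
  haveI := hloc
  haveI : IsLocalHom (algebraMap A' (A' ⊗[A] B)) := by
    refine ⟨fun a ha => ?_⟩
    by_contra hna
    haveI : Algebra.IsAlgebraic (IsLocalRing.ResidueField A) (IsLocalRing.ResidueField A') := inferInstance
    haveI : IsPurelyInseparable (IsLocalRing.ResidueField A) (IsLocalRing.ResidueField A') := inferInstance
    obtain ⟨q, hq⟩ := ExpChar.exists (IsLocalRing.ResidueField A)
    haveI := hq
    obtain ⟨F, hF, hF0⟩ := Algebra.IsIntegral.isIntegral (R := A) a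
    obtain ⟨n, y, hy⟩ := IsPurelyInseparable.pow_mem (IsLocalRing.ResidueField A) q (IsLocalRing.residue A' a)
    -- `a` is nilpotent modulo the maximal ideal of `B`
    haveI := hlocB
    have key : ∀ (k : ℕ) (x : A'), IsIntegral A x → x ∈ IsLocalRing.maximalIdeal A' → ¬ IsUnit (x ⊗ₜ[A] (1 : B)) := by
      intro k x hxi hxm hu
      have hxm' : x ∈ ((IsLocalRing.maximalIdeal A).map (algebraMap A A')).radical := by
        rw [Ideal.radical_eq_sInf, Ideal.mem_sInf]
        intro P hP
        haveI : P.IsPrime := hP.2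
        have hPm : (P.comap (algebraMap A A')).IsMaximal := by
          have h1 : IsLocalRing.maximalIdeal A ≤ P.comap (algebraMap A A') := Ideal.map_le_iff_le_comap.1 hP.1
          rw [← (IsLocalRing.maximalIdeal.isMaximal A).eq_of_le (Ideal.IsPrime.ne_top inferInstance) h1]
          exact IsLocalRing.maximalIdeal.isMaximal A
        rw [IsLocalRing.eq_maximalIdeal (Ideal.isMaximal_of_isIntegral_of_isMaximal_comap P hPm)]
        exact hxm
      obtain ⟨m, hm⟩ := hxm'
      have h2 : (x ⊗ₜ[A] (1 : B)) ^ m ∈ (IsLocalRing.maximalIdeal B).map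
          (Algebra.TensorProduct.includeRight : B →ₐ[A] A' ⊗[A] B).toRingHom := by
        rw [Algebra.TensorProduct.tmul_pow, one_pow]
        have h3 : (IsLocalRing.maximalIdeal A).map (algebraMap A A') ≤
            Ideal.comap (Algebra.TensorProduct.includeLeft : A' →ₐ[A] A' ⊗[A] B).toRingHom
              ((IsLocalRing.maximalIdeal B).map
                (Algebra.TensorProduct.includeRight : B →ₐ[A] A' ⊗[A] B).toRingHom) := by
          rw [Ideal.map_le_iff_le_comap]
          intro c hc
          rw [Ideal.mem_comap, Ideal.mem_comap]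
          show (Algebra.TensorProduct.includeLeft : A' →ₐ[A] A' ⊗[A] B) (algebraMap A A' c) ∈ _
          rw [AlgHom.commutes, ← (Algebra.TensorProduct.includeRight : B →ₐ[A] A' ⊗[A] B).commutes c]
          exact Ideal.mem_map_of_mem _ (fun h => hc ((isUnit_map_iff (algebraMap A B) c).1 h))
        exact h3 hm
      refine (IsLocalRing.maximalIdeal.isMaximal (A' ⊗[A] B)).ne_top
        (Ideal.eq_top_of_isUnit_mem _ (Ideal.map_le_iff_le_comap.2 ?_ h2) (hu.pow m))
      exact fun c hc h => hc ((isUnit_map_iff (Algebra.TensorProduct.includeRight : B →ₐ[A] A' ⊗[A] B).toRingHom c).1 h)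
    exact key 0 a ⟨F, hF, hF0⟩ hna ha
  obtain ⟨a', ha'⟩ := (bijective_of_alg_closed A' (A' ⊗[A] B) hroot).2 ((1 : A') ⊗ₜ b)
  have hz : (1 : A') ⊗ₜ[A] (b ⊗ₜ[A] (1 : B)) = (1 : A') ⊗ₜ[A] ((1 : B) ⊗ₜ[A] b) := by
    have h1 := congrArg (Algebra.TensorProduct.map (AlgHom.id A A') (Algebra.TensorProduct.includeLeft : B →ₐ[A] B ⊗[A] B)) ha'
    have h2 := congrArg (Algebra.TensorProduct.map (AlgHom.id A A') (Algebra.TensorProduct.includeRight : B →ₐ[A] B ⊗[A] B)) ha'
    rw [Algebra.TensorProduct.algebraMap_apply, Algebra.TensorProduct.map_tmul, Algebra.TensorProduct.map_tmul,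
      map_one] at h1 h2
    exact h1.symm.trans h2
  exact Algebra.TensorProduct.includeRight_injective (A := A') (B := B ⊗[A] B) hAA' hz

theorem bijective_of_strictlyHenselian (A B : Type u) [CommRing A] [HenselianLocalRing A]
    [IsSepClosed (IsLocalRing.ResidueField A)] [CommRing B] [IsLocalRing B] [Algebra A B]
    [IsLocalHom (algebraMap A B)] [Algebra.WeaklyEtale A B] : Function.Bijective (algebraMap A B) := by
  haveI : Module.FaithfullyFlat A B := Module.FaithfullyFlat.of_flat_of_isLocalHom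
  refine ⟨FaithfulSMul.algebraMap_injective A B, ?_⟩
  suffices h : ∀ b : B, b ⊗ₜ[A] (1 : B) = (1 : B) ⊗ₜ[A] b by
    refine (Module.FaithfullyFlat.lTensor_surjective_iff_surjective A B (Algebra.linearMap A B)).1 fun t => ?_
    induction t using TensorProduct.induction_on with
    | zero => exact ⟨0, map_zero _⟩
    | add x y hx hy =>
      obtain ⟨p, rfl⟩ := hx; obtain ⟨q, rfl⟩ := hy; exact ⟨p + q, map_add _ _ _⟩
    | tmul x y =>
      refine ⟨(x * y) ⊗ₜ 1, ?_⟩
      rw [LinearMap.lTensor_tmul, Algebra.linearMap_apply, map_one]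
      calc (x * y) ⊗ₜ[A] (1 : B) = (x ⊗ₜ 1) * (y ⊗ₜ 1) := by simp
        _ = x ⊗ₜ y := by rw [h y, Algebra.TensorProduct.tmul_mul_tmul, mul_one, one_mul]
  intro b
  let μ := Algebra.TensorProduct.lmul' A (S := B)
  haveI hpure : (RingHom.ker μ.toRingHom).Pure :=
    AbsFlat.pure_ker_of_flat_surjective _ (Algebra.WeaklyEtale.flat_lmul' A B) fun b => ⟨b ⊗ₜ 1, by simp [μ]⟩
  obtain ⟨y, hy, hy'⟩ := Ideal.exists_eq_mul_of_pure (I := RingHom.ker μ.toRingHom)
    (x := b ⊗ₜ[A] (1 : B) - (1 : B) ⊗ₜ[A] b) (show μ _ = 0 by simp [μ])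
  have hy0 : ∀ P : Ideal (B ⊗[A] B), P.IsPrime → y ∈ P := by
    intro P hP
    let p := P.comap (algebraMap A (B ⊗[A] B))
    have hp : p ≠ ⊤ := Ideal.IsPrime.ne_top inferInstance
    haveI := Groth.Agent.S16174.henselian_quot p hp
    haveI : IsSepClosed (IsLocalRing.ResidueField (A ⧸ p)) := by
      haveI : IsLocalHom (Ideal.Quotient.mk p) := IsLocalHom.of_surjective _ Ideal.Quotient.mk_surjective
      refine IsSepClosed.of_exists_root _ fun F hF hFi hFs => ?_
      let e : IsLocalRing.ResidueField A ≃+* IsLocalRing.ResidueField (A ⧸ p) :=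
        RingEquiv.ofBijective (IsLocalRing.ResidueField.map (Ideal.Quotient.mk p))
          ⟨RingHom.injective _, fun z => by
            obtain ⟨z, rfl⟩ := IsLocalRing.residue_surjective z
            obtain ⟨a, rfl⟩ := Ideal.Quotient.mk_surjective z
            exact ⟨IsLocalRing.residue A a, rfl⟩⟩
      obtain ⟨x, hx⟩ := IsSepClosed.exists_root (F.map e.symm.toRingHom)
        (by rw [hF.degree_map]; exact (Polynomial.degree_pos_of_irreducible hFi).ne')
        (hFs.map)
      refine ⟨e x, ?_⟩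
      have h1 := congrArg e hx
      rw [map_zero, Polynomial.eval_map, show e (Polynomial.eval₂ e.symm.toRingHom x F) =
        e.toRingHom (Polynomial.eval₂ e.symm.toRingHom x F) from rfl, Polynomial.hom_eval₂] at h1
      rw [← h1, show e.toRingHom.comp e.symm.toRingHom = RingHom.id _ from RingHom.ext e.apply_symm_apply]
      rfl
    let pB := p.map (algebraMap A B)
    have hpB : pB ≠ ⊤ := fun h => hp (by rw [← Ideal.comap_map_eq_self_of_faithfullyFlat (B := B) p, show p.map (algebraMap A B) = ⊤ from h, Ideal.comap_top])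
    letI : Algebra (A ⧸ p) (B ⧸ pB) := (Ideal.quotientMap pB (algebraMap A B) Ideal.le_comap_map).toAlgebra
    haveI : IsScalarTower A (A ⧸ p) (B ⧸ pB) := IsScalarTower.of_algebraMap_eq fun _ => rfl
    haveI : Nontrivial (B ⧸ pB) := Ideal.Quotient.nontrivial_iff.2 hpB
    haveI : IsLocalRing (B ⧸ pB) := IsLocalRing.of_surjective' _ Ideal.Quotient.mk_surjective
    haveI : IsLocalHom (algebraMap (A ⧸ p) (B ⧸ pB)) := by
      refine ⟨fun a ha => ?_⟩
      obtain ⟨a, rfl⟩ := Ideal.Quotient.mk_surjective a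
      haveI : IsLocalHom (Ideal.Quotient.mk pB) := IsLocalHom.of_surjective _ Ideal.Quotient.mk_surjective
      exact ((isUnit_map_iff (algebraMap A B) a).1 (isUnit_of_map_unit (Ideal.Quotient.mk pB) _ ha)).map _
    have epb : pB = (p.map (algebraMap A B)) := rfl
    let φ : (A ⧸ p) ⊗[A] B →ₐ[A ⧸ p] B ⧸ pB :=
      Algebra.TensorProduct.lift (Algebra.ofId _ _) (Ideal.Quotient.mkₐ A pB) fun _ _ => Commute.all _ _
    let ψ : B ⧸ pB →ₐ[A] (A ⧸ p) ⊗[A] B := Ideal.Quotient.liftₐ pB Algebra.TensorProduct.includeRight (by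
      have : pB ≤ RingHom.ker (Algebra.TensorProduct.includeRight : B →ₐ[A] (A ⧸ p) ⊗[A] B).toRingHom := by
        rw [Ideal.map_le_iff_le_comap]
        intro c hc
        rw [Ideal.mem_comap, RingHom.mem_ker]
        show (Algebra.TensorProduct.includeRight : B →ₐ[A] (A ⧸ p) ⊗[A] B) (algebraMap A B c) = 0
        rw [AlgHom.commutes, Algebra.TensorProduct.algebraMap_apply,
          show algebraMap A (A ⧸ p) c = 0 from Ideal.Quotient.eq_zero_iff_mem.2 hc, TensorProduct.zero_tmul]
      exact fun c hc => this hc)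
    have hψφ : ∀ t, ψ (φ t) = t := fun t => by
      induction t using TensorProduct.induction_on with
      | zero => simp
      | add x y hx hy => rw [map_add, map_add, hx, hy]
      | tmul c d =>
        obtain ⟨c, rfl⟩ := Ideal.Quotient.mk_surjective c
        rw [Algebra.TensorProduct.lift_tmul]
        show ψ (Ideal.Quotient.mk pB (algebraMap A B c) * Ideal.Quotient.mk pB d) = _
        rw [← map_mul]
        show (Algebra.TensorProduct.includeRight : B →ₐ[A] (A ⧸ p) ⊗[A] B) (algebraMap A B c * d) = _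
        rw [map_mul, AlgHom.commutes, Algebra.TensorProduct.includeRight_apply,
          Algebra.TensorProduct.algebraMap_apply, Algebra.TensorProduct.tmul_mul_tmul, mul_one, one_mul]
        rfl
    have hφ : Function.Bijective φ := ⟨fun s t h => by rw [← hψφ s, ← hψφ t, h], fun t => by
      obtain ⟨d, rfl⟩ := Ideal.Quotient.mk_surjective t
      exact ⟨1 ⊗ₜ d, by rw [Algebra.TensorProduct.lift_tmul, map_one, one_mul]; rfl⟩⟩
    haveI : Algebra.WeaklyEtale (A ⧸ p) (B ⧸ pB) := by
      letI : Algebra ((A ⧸ p) ⊗[A] B) (B ⧸ pB) := φ.toRingHom.toAlgebra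
      haveI : IsScalarTower (A ⧸ p) ((A ⧸ p) ⊗[A] B) (B ⧸ pB) := IsScalarTower.of_algebraMap_eq' φ.comp_algebraMap.symm
      haveI : Algebra.WeaklyEtale ((A ⧸ p) ⊗[A] B) (B ⧸ pB) := by
        haveI : IsLocalization (⊥ : Submonoid ((A ⧸ p) ⊗[A] B)) ((A ⧸ p) ⊗[A] B) :=
          IsLocalization.self (by simp)
        haveI : IsLocalization (⊥ : Submonoid ((A ⧸ p) ⊗[A] B)) (B ⧸ pB) :=
          IsLocalization.isLocalization_of_algEquiv ⊥ (AlgEquiv.ofBijective (Algebra.ofId ((A ⧸ p) ⊗[A] B) (B ⧸ pB)) hφ)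
        exact weaklyEtale_localization _ (B ⧸ pB) (⊥ : Submonoid ((A ⧸ p) ⊗[A] B))
      exact Algebra.WeaklyEtale.trans (A ⧸ p) ((A ⧸ p) ⊗[A] B) (B ⧸ pB)
    -- map `B ⊗ B` to `B/pB ⊗ B/pB`
    let g : B ⊗[A] B →ₐ[A] (B ⧸ pB) ⊗[A ⧸ p] (B ⧸ pB) :=
      Algebra.TensorProduct.lift
        (((Algebra.TensorProduct.includeLeft : (B ⧸ pB) →ₐ[A ⧸ p] _).restrictScalars A).comp (Ideal.Quotient.mkₐ A pB))
        (((Algebra.TensorProduct.includeRight : (B ⧸ pB) →ₐ[A ⧸ p] _).restrictScalars A).comp (Ideal.Quotient.mkₐ A pB))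
        fun _ _ => Commute.all _ _
    have hg : ∀ z, Algebra.TensorProduct.lmul' (A ⧸ p) (g z) = Ideal.Quotient.mk pB (μ z) := by
      intro z
      induction z using TensorProduct.induction_on with
      | zero => simp
      | add x y hx hy => simp [hx, hy]
      | tmul c d => simp [g, μ]
    have hgy : g y = 0 := by
      have hd : ∀ w : (B ⧸ pB) ⊗[A ⧸ p] (B ⧸ pB), w = Algebra.TensorProduct.lmul' (A ⧸ p) w ⊗ₜ 1 := by
        intro w
        induction w using TensorProduct.induction_on with
        | zero => simp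
        | add x y hx hy => rw [map_add, TensorProduct.add_tmul, ← hx, ← hy]
        | tmul c d =>
          rw [Algebra.TensorProduct.lmul'_apply_tmul]
          calc c ⊗ₜ[A ⧸ p] d = (c ⊗ₜ 1) * (1 ⊗ₜ d) := by simp
            _ = _ := by rw [← one_tmul_eq_of_domain (A ⧸ p) (B ⧸ pB) d, Algebra.TensorProduct.tmul_mul_tmul, mul_one]
      rw [hd (g y), hg y, show μ y = 0 from hy, map_zero, TensorProduct.zero_tmul]
    -- the kernel of `g` lies in `P`
    let h : (B ⧸ pB) ⊗[A ⧸ p] (B ⧸ pB) →+* (B ⊗[A] B) ⧸ P := by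
      letI : Algebra (A ⧸ p) ((B ⊗[A] B) ⧸ P) :=
        (Ideal.quotientMap P (algebraMap A (B ⊗[A] B)) le_rfl).toAlgebra
      have hB : ∀ (j : B →ₐ[A] B ⊗[A] B), pB ≤ RingHom.ker ((Ideal.Quotient.mk P).comp j.toRingHom) := by
        intro j
        rw [Ideal.map_le_iff_le_comap]
        intro c hc
        rw [Ideal.mem_comap, RingHom.mem_ker]
        show Ideal.Quotient.mk P (j (algebraMap A B c)) = 0
        rw [AlgHom.commutes]
        exact Ideal.Quotient.eq_zero_iff_mem.2 hc
      let m : ∀ (j : B →ₐ[A] B ⊗[A] B), (B ⧸ pB) →ₐ[A ⧸ p] ((B ⊗[A] B) ⧸ P) := fun j =>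
        { Ideal.Quotient.lift pB ((Ideal.Quotient.mk P).comp j.toRingHom) (fun c hc => hB j hc) with
          commutes' := fun a => by
            obtain ⟨a, rfl⟩ := Ideal.Quotient.mk_surjective a
            show Ideal.Quotient.mk P (j (algebraMap A B a)) = Ideal.Quotient.mk P (algebraMap A (B ⊗[A] B) a)
            rw [AlgHom.commutes] }
      exact (Algebra.TensorProduct.lift (m Algebra.TensorProduct.includeLeft) (m Algebra.TensorProduct.includeRight)
        fun _ _ => Commute.all _ _).toRingHom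
    have hh : h.comp g.toRingHom = Ideal.Quotient.mk P := by
      refine RingHom.ext fun z => ?_
      induction z using TensorProduct.induction_on with
      | zero => simp
      | add x y hx hy => rw [map_add, map_add, hx, hy]
      | tmul c d =>
        simp [g, h, ← map_mul]
    have := congrArg (fun f => f y) hh
    simp only [RingHom.comp_apply, AlgHom.toRingHom_eq_coe, RingHom.coe_coe, hgy, map_zero] at this
    exact Ideal.Quotient.eq_zero_iff_mem.1 this.symm
  have hnil : IsNilpotent y := by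
    rw [← mem_nilradical, nilradical_eq_sInf, Submodule.mem_sInf]
    exact fun P hP => hy0 P hP
  have h1 : (b ⊗ₜ[A] (1 : B) - (1 : B) ⊗ₜ[A] b) * (1 - y) = 0 := by rw [mul_sub, mul_one, ← hy', sub_self]
  exact sub_eq_zero.1 (hnil.isUnit_one_sub.mul_left_eq_zero.1 h1)

end Groth.Agent.WEtNormalLib
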