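import Groth.Agent.WEtFieldLib.Basic
import Mathlib

/-! Weakly étale local algebras over valuation rings with algebraically closed fraction field. -/

set_option autoImplicit false
set_option linter.style.haveILetI false
set_option backward.isDefEq.respectTransparency false
universe u

open TensorProduct Polynomial

namespace Groth.Agent.WEtNormalLib

theorem exists_aeval_root_mem {V D : Type u} [CommRing V] [Nontrivial V] [CommRing D] [IsDomain D] [Algebra V D]
    (hroot : ∀ F : V[X], F.Monic → F.natDegree ≠ 0 → ∃ v, F.IsRoot v) (n : ℕ) :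
    ∀ (F : V[X]) (d : D), F.Monic → F.natDegree = n → aeval d F = 0 → ∃ v : V, d = algebraMap V D v := by
  induction n with
  | zero =>
    intro F d hF hn h
    rw [eq_one_of_monic_natDegree_zero hF hn, map_one] at h
    exact absurd h one_ne_zero
  | succ n ih =>
    intro F d hF hn h
    obtain ⟨v, hv⟩ := hroot F hF (by omega)
    have hfac := mul_divByMonic_eq_iff_isRoot.2 hv
    rw [← hfac, map_mul, aeval_sub, aeval_X, aeval_C] at h
    rcases mul_eq_zero.1 h with h1 | h1
    · exact ⟨v, sub_eq_zero.1 h1⟩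
    · have hm : (F /ₘ (X - C v)).Monic := (monic_X_sub_C v).of_mul_monic_left (hfac.symm ▸ hF)
      refine ih _ d hm ?_ h1
      rw [natDegree_divByMonic _ (monic_X_sub_C v), natDegree_X_sub_C, hn]
      omega

/-- A local weakly étale algebra over a valuation ring in which every monic polynomial has a root is
trivial. -/
theorem bijective_algebraMap (V B : Type u) [CommRing V] [IsDomain V] [ValuationRing V]
    [CommRing B] [IsLocalRing B] [Algebra V B] [IsLocalHom (algebraMap V B)] [Algebra.WeaklyEtale V B]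
    (hroot : ∀ F : V[X], F.Monic → F.natDegree ≠ 0 → ∃ v, F.IsRoot v) :
    Function.Bijective (algebraMap V B) := by
  haveI : Module.FaithfullyFlat V B := Module.FaithfullyFlat.of_flat_of_isLocalHom
  have hinj : Function.Injective (algebraMap V B) := FaithfulSMul.algebraMap_injective V B
  have htf : ∀ (v : V) (b : B), v ≠ 0 → algebraMap V B v * b = 0 → b = 0 := by
    intro v b hv h
    have h1 := (IsSMulRegular.of_flat (S := B) (IsRegular.of_ne_zero hv).left.isSMulRegular)
    exact h1 (show algebraMap V B v * b = algebraMap V B v * (0 : B) by rw [h, mul_zero])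
  -- elements of `B` are algebraic over `V`
  let K := FractionRing V
  have hK : Function.Injective (algebraMap V K) := IsFractionRing.injective V K
  have halg : ∀ b : B, IsAlgebraic V b := fun b => by
    haveI := WEtFieldLib.isIntegral (K := K) (B := K ⊗[V] B)
    have h1 : IsAlgebraic K ((1 : K) ⊗ₜ[V] b) := (Algebra.IsIntegral.isIntegral _).isAlgebraic
    exact (isAlgebraic_algHom_iff (Algebra.TensorProduct.includeRight : B →ₐ[V] K ⊗[V] B)
      (Algebra.TensorProduct.includeRight_injective hK)).1 ((IsFractionRing.isAlgebraic_iff V K (K ⊗[V] B)).2 h1)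
  -- modulo a minimal prime every element comes from `V`
  have hsec : ∀ (Q : Ideal B), Q ∈ minimalPrimes B → ∀ b : B, ∃ v : V, b - algebraMap V B v ∈ Q := by
    intro Q hQ b
    haveI : Q.IsPrime := hQ.1.1
    have hQV : ∀ v : V, algebraMap V B v ∈ Q → v = 0 := fun v hv => by
      by_contra h0
      exact (Set.disjoint_left.1 (Ideal.disjoint_nonZeroDivisors_of_mem_minimalPrimes hQ) hv)
        (mem_nonZeroDivisors_iff_right.2 fun c hc => htf v c h0 (by rwa [mul_comm] at hc))
    obtain ⟨c, hc, hint⟩ := (halg b).exists_integral_multiple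
    obtain ⟨F, hF, hF0⟩ := hint
    obtain ⟨v, hv⟩ := exists_aeval_root_mem (D := B ⧸ Q) hroot F.natDegree F (Ideal.Quotient.mk Q (c • b)) hF rfl (by
      rw [show Ideal.Quotient.mk Q (c • b) = Ideal.Quotient.mkₐ V Q (c • b) from rfl, Polynomial.aeval_algHom_apply,
        aeval_def, hF0, map_zero])
    have hv' : algebraMap V B c * b - algebraMap V B v ∈ Q := by
      rw [← Algebra.smul_def]
      exact Ideal.Quotient.eq.1 hv
    rcases ValuationRing.dvd_total c v with ⟨w, rfl⟩ | ⟨w, rfl⟩
    · refine ⟨w, ((inferInstance : Q.IsPrime).mem_or_mem (x := algebraMap V B c) ?_).resolve_left fun h => hc (hQV c h)⟩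
      rw [map_mul] at hv'
      rw [mul_sub]; exact hv'
    · have h1 : algebraMap V B w * b - 1 ∈ Q := by
        refine ((inferInstance : Q.IsPrime).mem_or_mem (x := algebraMap V B v) ?_).resolve_left fun h => hc (by
          rw [hQV v h, zero_mul])
        rw [map_mul] at hv'
        rw [mul_sub, ← mul_assoc, mul_one]; exact hv'
      have h2 : IsUnit (algebraMap V B w * b) := by
        by_contra hu
        exact (IsLocalRing.maximalIdeal.isMaximal B).ne_top ((Ideal.eq_top_iff_one _).2 (by
          simpa using (IsLocalRing.maximalIdeal B).sub_mem hu (IsLocalRing.le_maximalIdeal (Ideal.IsPrime.ne_top inferInstance) h1)))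
      obtain ⟨w', hw'⟩ := ((isUnit_map_iff (algebraMap V B) w).1 (isUnit_of_mul_isUnit_left h2)).exists_left_inv
      refine ⟨w', ?_⟩
      have : b - algebraMap V B w' = algebraMap V B w' * (algebraMap V B w * b - 1) := by
        rw [mul_sub, ← mul_assoc, ← map_mul, hw', map_one, one_mul, mul_one]
      rw [this]; exact Q.mul_mem_left _ h1
  have hpure : (RingHom.ker (Algebra.TensorProduct.lmul' V (S := B)).toRingHom).Pure :=
    AbsFlat.pure_ker_of_flat_surjective _ (Algebra.WeaklyEtale.flat_lmul' V B) fun b => ⟨b ⊗ₜ 1, by simp⟩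
  -- independence of the minimal prime
  have huniq : ∀ (Q₁ Q₂ : Ideal B), Q₁ ∈ minimalPrimes B → Q₂ ∈ minimalPrimes B → ∀ (b : B) (v₁ v₂ : V),
      b - algebraMap V B v₁ ∈ Q₁ → b - algebraMap V B v₂ ∈ Q₂ → v₁ = v₂ := by
    intro Q₁ Q₂ h₁ h₂ b v₁ v₂ e₁ e₂
    have hmk : ∀ (Q : Ideal B), Q ∈ minimalPrimes B → ∃ σ : B →ₐ[V] V, ∀ x, x - algebraMap V B (σ x) ∈ Q := by
      intro Q hQ
      haveI : Q.IsPrime := hQ.1.1
      have hbij : Function.Bijective (Algebra.ofId V (B ⧸ Q)) := by
        refine ⟨(injective_iff_map_eq_zero _).2 fun v hv => ?_, fun y => ?_⟩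
        · by_contra h0
          exact (Set.disjoint_left.1 (Ideal.disjoint_nonZeroDivisors_of_mem_minimalPrimes hQ)
            (Ideal.Quotient.eq_zero_iff_mem.1 (show Ideal.Quotient.mk Q (algebraMap V B v) = 0 from hv)))
            (mem_nonZeroDivisors_iff_right.2 fun c hc => htf v c h0 (by rwa [mul_comm] at hc))
        · obtain ⟨x, rfl⟩ := Ideal.Quotient.mk_surjective y
          obtain ⟨v, hv⟩ := hsec Q hQ x
          exact ⟨v, (Ideal.Quotient.eq.2 hv).symm⟩
      refine ⟨(AlgEquiv.ofBijective _ hbij).symm.toAlgHom.comp (Ideal.Quotient.mkₐ V Q), fun x => Ideal.Quotient.eq.1 ?_⟩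
      exact ((AlgEquiv.ofBijective _ hbij).apply_symm_apply (Ideal.Quotient.mk Q x)).symm
    obtain ⟨σ, hσ⟩ := hmk Q₁ h₁
    obtain ⟨τ, hτ⟩ := hmk Q₂ h₂
    have hres : ∀ (Q : Ideal B), Q ∈ minimalPrimes B → ∀ (x : B) (v : V), x - algebraMap V B v ∈ Q → x - algebraMap V B v ∈ IsLocalRing.maximalIdeal B :=
      fun Q hQ x v h => IsLocalRing.le_maximalIdeal hQ.1.1.ne_top h
    let μ := Algebra.TensorProduct.lmul' V (S := B)
    let Φ : B ⊗[V] B →ₐ[V] V := Algebra.TensorProduct.lift σ τ (fun _ _ => mul_comm _ _)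
    obtain ⟨y, hy, hy'⟩ := Ideal.exists_eq_mul_of_pure (I := RingHom.ker μ.toRingHom)
      (x := b ⊗ₜ[V] (1 : B) - (1 : B) ⊗ₜ[V] b) (show μ _ = 0 by simp [μ])
    have hcong : ∀ z : B ⊗[V] B, algebraMap V B (Φ z) - μ z ∈ IsLocalRing.maximalIdeal B := by
      intro z
      induction z with
      | zero => simp
      | add z z' hz hz' =>
        rw [map_add, map_add, map_add, add_sub_add_comm]
        exact Ideal.add_mem _ hz hz'
      | tmul x x' =>
        have e1 := hres _ h₁ _ _ (hσ x)
        have e2 := hres _ h₂ _ _ (hτ x')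
        have : algebraMap V B (Φ (x ⊗ₜ x')) - μ (x ⊗ₜ x') =
            (algebraMap V B (σ x) - x) * algebraMap V B (τ x') + x * (algebraMap V B (τ x') - x') := by
          simp only [Φ, μ, Algebra.TensorProduct.lift_tmul, Algebra.TensorProduct.lmul'_apply_tmul, map_mul]
          ring
        rw [this]
        refine Ideal.add_mem _ (Ideal.mul_mem_right _ _ ?_) (Ideal.mul_mem_left _ _ ?_)
        · rw [← neg_sub]; exact neg_mem e1
        · rw [← neg_sub]; exact neg_mem e2
    have hΦy : Φ y ∈ IsLocalRing.maximalIdeal V := by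
      intro hu
      have h0 : μ y = 0 := hy
      have := hcong y
      rw [h0, sub_zero] at this
      exact this (hu.map _)
    have h3 := congrArg Φ hy'
    rw [map_mul] at h3
    have h4 : (σ b - τ b) * (1 - Φ y) = 0 := by
      rw [mul_sub, mul_one, sub_eq_zero]
      simpa [Φ] using h3
    have h5 : σ b = τ b := sub_eq_zero.1 ((mul_eq_zero.1 h4).resolve_right fun h =>
      (IsLocalRing.maximalIdeal.isMaximal V).ne_top ((Ideal.eq_top_iff_one _).2 ((sub_eq_zero.1 h) ▸ hΦy)))
    have g : ∀ (Q : Ideal B), Q ∈ minimalPrimes B → ∀ v w : V, b - algebraMap V B v ∈ Q → b - algebraMap V B w ∈ Q → v = w := by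
      intro Q hQ v w hv hw
      by_contra hne
      exact (Set.disjoint_left.1 (Ideal.disjoint_nonZeroDivisors_of_mem_minimalPrimes hQ)
        (show algebraMap V B (w - v) ∈ Q by rw [map_sub]; simpa using Q.sub_mem hv hw))
        (mem_nonZeroDivisors_iff_right.2 fun c hc => htf _ c (sub_ne_zero.2 (Ne.symm hne)) (by rwa [mul_comm] at hc))
    rw [g _ h₁ v₁ _ e₁ (hσ b), g _ h₂ v₂ _ e₂ (hτ b), h5]
  refine ⟨hinj, fun b => ?_⟩
  obtain ⟨P, hP⟩ : (minimalPrimes B).Nonempty := Set.nonempty_coe_sort.1 (Ideal.nonempty_minimalPrimes (bot_ne_top))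
  obtain ⟨v, hv⟩ := hsec P hP b
  refine ⟨v, ?_⟩
  haveI := WEtFieldLib.isReduced (K := K) (B := K ⊗[V] B)
  haveI : IsReduced B := isReduced_of_injective (Algebra.TensorProduct.includeRight : B →ₐ[V] K ⊗[V] B).toRingHom
    (Algebra.TensorProduct.includeRight_injective hK)
  refine (sub_eq_zero.1 (IsNilpotent.eq_zero (x := b - algebraMap V B v) ?_)).symm
  rw [← mem_nilradical, nilradical, ← Ideal.sInf_minimalPrimes, Submodule.mem_sInf]
  intro Q hQ
  obtain ⟨v', hv'⟩ := hsec Q hQ b
  rwa [huniq P Q hP hQ b v v' hv hv']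

end Groth.Agent.WEtNormalLib
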